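import Cfsg.Agent.Lib.Chevalley.Table
import Cfsg.Prelude.Def_ChevB2

/-!
The table of type B2.
-/

set_option autoImplicit false
set_option maxRecDepth 20000

namespace CfsgLib.Chevalley.Data.B2

open Cfsg.Lie

def row (r : Nat) : Nat :=
  bif Nat.ble 4 r then
   bif Nat.ble 6 r then
    bif Nat.ble 7 r then
     0x77069000
    else
     0x8600006705a000039
   else
    bif Nat.ble 5 r then
     0x8a00007700000004a027
    else
     0x79000000000037000
  else
   bif Nat.ble 2 r then
    bif Nat.ble 3 r then
     0x69000000000027000000
    else
     0x79056000000029000016000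
   else
    bif Nat.ble 1 r then
     0x6700004603900001a000000
    else
     0x37029000000000000000

def coRow (r : Nat) : Nat :=
  bif Nat.ble 4 r then
   bif Nat.ble 6 r then
    bif Nat.ble 7 r then
     0x8182
    else
     0x8181
   else
    bif Nat.ble 5 r then
     0x8081
    else
     0x8180
  else
   bif Nat.ble 2 r then
    bif Nat.ble 3 r then
     0x7f80
    else
     0x807f
   else
    bif Nat.ble 1 r then
     0x7f7f
    else
     0x7f7e

def cvRow (r : Nat) : Nat :=
  bif Nat.ble 4 r then
   bif Nat.ble 6 r then
    bif Nat.ble 7 r then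
     0x8181
    else
     0x8281
   else
    bif Nat.ble 5 r then
     0x8081
    else
     0x8180
  else
   bif Nat.ble 2 r then
    bif Nat.ble 3 r then
     0x7f80
    else
     0x807f
   else
    bif Nat.ble 1 r then
     0x7e7f
    else
     0x7f7f

def caRow (r : Nat) : Nat :=
  bif Nat.ble 4 r then
   bif Nat.ble 6 r then
    bif Nat.ble 7 r then
     0x8082
    else
     0x8180
   else
    bif Nat.ble 5 r then
     0x7f82
    else
     0x827e
  else
   bif Nat.ble 2 r then
    bif Nat.ble 3 r then
     0x7e82
    else
     0x817e
   else
    bif Nat.ble 1 r then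
     0x7f80
    else
     0x807e

def simple (i : Nat) : Nat :=
  bif Nat.ble 1 i then
   0x4
  else
   0x5

/-- The table of type B2. -/
def tbl : Tbl where
  rank := 2
  half := 4
  row := row
  coRow := coRow
  cvRow := cvRow
  caRow := caRow
  simple := simple

theorem datum_simpleIdx : tbl.datum.simpleIdx = chevB2.simpleIdx := by decide +kernel
theorem datum_negIdx : tbl.datum.negIdx = chevB2.negIdx := by decide +kernel
theorem datum_coroot : tbl.datum.coroot = chevB2.coroot := by decide +kernel
theorem datum_cartanSR : tbl.datum.cartanSR = chevB2.cartanSR := by decide +kernel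
theorem datum_chain : tbl.datum.chain = chevB2.chain := by decide +kernel

theorem datum_eq : tbl.datum = chevB2 := by
  have key : ∀ a b : ChevalleyDatum, a.rank = b.rank → a.nroots = b.nroots →
      a.simpleIdx = b.simpleIdx → a.negIdx = b.negIdx → a.coroot = b.coroot →
      a.cartanSR = b.cartanSR → a.chain = b.chain → a = b := by
    rintro ⟨⟩ ⟨⟩ rfl rfl rfl rfl rfl rfl rfl; rfl
  exact key _ _ rfl rfl datum_simpleIdx datum_negIdx datum_coroot datum_cartanSR datum_chain

theorem chkRoots : tbl.chkRoots = true := by decide +kernel
theorem chkPairs : tbl.chkPairs = true := by decide +kernel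
theorem chkJacs : tbl.chkJacs = true := by decide +kernel
theorem chkNs : tbl.chkNs = true := by decide +kernel

theorem valid : tbl.Valid := ⟨chkRoots, chkPairs, chkJacs, chkNs⟩

end CfsgLib.Chevalley.Data.B2
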