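import Cfsg.Agent.Lib.Chevalley.Data.B2
import Cfsg.Agent.Lib.Chevalley.CommCheck

/-!
The commutator check for type B2.
-/

set_option autoImplicit false
set_option maxRecDepth 20000
set_option Elab.async false

namespace CfsgLib.Chevalley.Data.B2

theorem chkComm : tbl.chkComm = true := by decide +kernel

end CfsgLib.Chevalley.Data.B2
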