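import Cfsg.Agent.Lib.Chevalley.Table
import Cfsg.Prelude.Def_ChevD4

/-!
The table of type D4.
-/

set_option autoImplicit false
set_option maxRecDepth 20000

namespace CfsgLib.Chevalley.Data.D4

open Cfsg.Lie

def row (r : Nat) : Nat :=
  bif Nat.ble 12 r then
   bif Nat.ble 18 r then
    bif Nat.ble 21 r then
     bif Nat.ble 22 r then
      bif Nat.ble 23 r then
       0x1771691591470001291171070f9000
      else
       0x1870000001671570000000001371290000e90d90000a9
     else
      0x1890000001770001470000001370001190e90000000c9097
    else
     bif Nat.ble 19 r then
      bif Nat.ble 20 r then
       0x1890000001770001470000001370000001090d90000000b9087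
      else
       0x1870000000001671570000001370000000000f90000c90b9000079
     else
      0x1771671571470000000000000000000000000000a9099089079000
   else
    bif Nat.ble 15 r then
     bif Nat.ble 16 r then
      bif Nat.ble 17 r then
       0x1891790000000000000000001171070000e90d9000000000000000067057
      else
       0x1870001690000000000000001270000f70e90000000c9000000000067000049
     else
      0x1870000001590000000000001270000f70000d90000000b9000000067000000039
    else
     bif Nat.ble 13 r then
      bif Nat.ble 14 r then
       0x1890000000001490000000000001171070000000000c90b9000000067000000000027
      else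
       0x1791690000000001291190000000000000000000a7097000000000057047000
     else
      0x1790001590000001290001090000000000000000a7000087000000057000037000
  else
   bif Nat.ble 6 r then
    bif Nat.ble 9 r then
     bif Nat.ble 10 r then
      bif Nat.ble 11 r then
       0x1690001490000001190000f9000000000000000097000077000000047000027000000
      else
       0x1591490000000001090f9000000000000000000087077000000000037027000000000
     else
      0x1790000000001390000000e70d7000000000099089000000000000057000000000017000
    else
     bif Nat.ble 7 r then
      bif Nat.ble 8 r then
       0x1670000001390000000e70000000c70000a9000079000000000000047000000019000000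
      else
       0x1570001390000000000d70000000b70a9000079000000000000000037000019000000000
     else
      0x1491390000000000000000c70b7000099089000000000000000000027017000000000000
   else
    bif Nat.ble 3 r then
     bif Nat.ble 4 r then
      bif Nat.ble 5 r then
       0x1271171070f7000000000000000000000000000059049039029000000000000000000
      else
       0x1270000e70d70000a7000000000069000000049039000000000019000000000000000000
     else
      0x1190e70000000c7097000000069000000059000029000000017000000000000000000000
    else
     bif Nat.ble 1 r then
      bif Nat.ble 2 r then
       0x1090d70000000b7087000069000000059000029000000017000000000000000000000000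
      else
       0xf70000c70b7000077069000000000049039000000019000000000000000000000000000
     else
      0xa7099089077000059047037029000000000000000000000000000000000000000000

def coRow (r : Nat) : Nat :=
  bif Nat.ble 12 r then
   bif Nat.ble 18 r then
    bif Nat.ble 21 r then
     bif Nat.ble 22 r then
      bif Nat.ble 23 r then
       0x81818281
      else
       0x81818181
     else
      0x80818181
    else
     bif Nat.ble 19 r then
      bif Nat.ble 20 r then
       0x81808181
      else
       0x80808181
     else
      0x80808081
   else
    bif Nat.ble 15 r then
     bif Nat.ble 16 r then
      bif Nat.ble 17 r then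
       0x81818180
      else
       0x80818180
     else
      0x81808180
    else
     bif Nat.ble 13 r then
      bif Nat.ble 14 r then
       0x80808180
      else
       0x80818080
     else
      0x81808080
  else
   bif Nat.ble 6 r then
    bif Nat.ble 9 r then
     bif Nat.ble 10 r then
      bif Nat.ble 11 r then
       0x7f808080
      else
       0x807f8080
     else
      0x80807f80
    else
     bif Nat.ble 7 r then
      bif Nat.ble 8 r then
       0x7f807f80
      else
       0x807f7f80
     else
      0x7f7f7f80
   else
    bif Nat.ble 3 r then
     bif Nat.ble 4 r then
      bif Nat.ble 5 r then
       0x8080807f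
      else
       0x80807f7f
     else
      0x7f807f7f
    else
     bif Nat.ble 1 r then
      bif Nat.ble 2 r then
       0x807f7f7f
      else
       0x7f7f7f7f
     else
      0x7f7f7e7f

def cvRow (r : Nat) : Nat :=
  bif Nat.ble 12 r then
   bif Nat.ble 18 r then
    bif Nat.ble 21 r then
     bif Nat.ble 22 r then
      bif Nat.ble 23 r then
       0x81818281
      else
       0x81818181
     else
      0x80818181
    else
     bif Nat.ble 19 r then
      bif Nat.ble 20 r then
       0x81808181
      else
       0x80808181
     else
      0x80808081
   else
    bif Nat.ble 15 r then
     bif Nat.ble 16 r then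
      bif Nat.ble 17 r then
       0x81818180
      else
       0x80818180
     else
      0x81808180
    else
     bif Nat.ble 13 r then
      bif Nat.ble 14 r then
       0x80808180
      else
       0x80818080
     else
      0x81808080
  else
   bif Nat.ble 6 r then
    bif Nat.ble 9 r then
     bif Nat.ble 10 r then
      bif Nat.ble 11 r then
       0x7f808080
      else
       0x807f8080
     else
      0x80807f80
    else
     bif Nat.ble 7 r then
      bif Nat.ble 8 r then
       0x7f807f80
      else
       0x807f7f80
     else
      0x7f7f7f80
   else
    bif Nat.ble 3 r then
     bif Nat.ble 4 r then
      bif Nat.ble 5 r then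
       0x8080807f
      else
       0x80807f7f
     else
      0x7f807f7f
    else
     bif Nat.ble 1 r then
      bif Nat.ble 2 r then
       0x807f7f7f
      else
       0x7f7f7f7f
     else
      0x7f7f7e7f

def caRow (r : Nat) : Nat :=
  bif Nat.ble 12 r then
   bif Nat.ble 18 r then
    bif Nat.ble 21 r then
     bif Nat.ble 22 r then
      bif Nat.ble 23 r then
       0x80808180
      else
       0x81817f81
     else
      0x7f818081
    else
     bif Nat.ble 19 r then
      bif Nat.ble 20 r then
       0x817f8081
      else
       0x7f7f8181
     else
      0x80807f82
   else
    bif Nat.ble 15 r then
     bif Nat.ble 16 r then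
      bif Nat.ble 17 r then
       0x8181807f
      else
       0x7f81817f
     else
      0x817f817f
    else
     bif Nat.ble 13 r then
      bif Nat.ble 14 r then
       0x7f7f827f
      else
       0x80827f80
     else
      0x82807f80
  else
   bif Nat.ble 6 r then
    bif Nat.ble 9 r then
     bif Nat.ble 10 r then
      bif Nat.ble 11 r then
       0x7e808180
      else
       0x807e8180
     else
      0x81817e81
    else
     bif Nat.ble 7 r then
      bif Nat.ble 8 r then
       0x7f817f81
      else
       0x817f7f81
     else
      0x7f7f8081
   else
    bif Nat.ble 3 r then
     bif Nat.ble 4 r then
      bif Nat.ble 5 r then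
       0x8080817e
      else
       0x81817f7f
     else
      0x7f81807f
    else
     bif Nat.ble 1 r then
      bif Nat.ble 2 r then
       0x817f807f
      else
       0x7f7f817f
     else
      0x80807f80

def simple (i : Nat) : Nat :=
  bif Nat.ble 2 i then
   bif Nat.ble 3 i then
    0xc
   else
    0xd
  else
   bif Nat.ble 1 i then
    0xe
   else
    0x12

/-- The table of type D4. -/
def tbl : Tbl where
  rank := 4
  half := 12
  row := row
  coRow := coRow
  cvRow := cvRow
  caRow := caRow
  simple := simple

theorem datum_simpleIdx : tbl.datum.simpleIdx = chevD4.simpleIdx := by decide +kernel
theorem datum_negIdx : tbl.datum.negIdx = chevD4.negIdx := by decide +kernel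
theorem datum_coroot : tbl.datum.coroot = chevD4.coroot := by decide +kernel
theorem datum_cartanSR : tbl.datum.cartanSR = chevD4.cartanSR := by decide +kernel
theorem datum_chain : tbl.datum.chain = chevD4.chain := by decide +kernel

theorem datum_eq : tbl.datum = chevD4 := by
  have key : ∀ a b : ChevalleyDatum, a.rank = b.rank → a.nroots = b.nroots →
      a.simpleIdx = b.simpleIdx → a.negIdx = b.negIdx → a.coroot = b.coroot →
      a.cartanSR = b.cartanSR → a.chain = b.chain → a = b := by
    rintro ⟨⟩ ⟨⟩ rfl rfl rfl rfl rfl rfl rfl; rfl
  exact key _ _ rfl rfl datum_simpleIdx datum_negIdx datum_coroot datum_cartanSR datum_chain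

theorem chkRoots : tbl.chkRoots = true := by decide +kernel
theorem chkPairs : tbl.chkPairs = true := by decide +kernel
theorem chkJacs : tbl.chkJacs = true := by decide +kernel
theorem chkNs : tbl.chkNs = true := by decide +kernel

theorem valid : tbl.Valid := ⟨chkRoots, chkPairs, chkJacs, chkNs⟩

end CfsgLib.Chevalley.Data.D4
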