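import Cfsg.Agent.Lib.Chevalley.Data.E7
import Cfsg.Agent.Lib.Chevalley.CommCheck

/-!
The commutator check for type E7.
-/

set_option autoImplicit false
set_option maxRecDepth 20000
set_option Elab.async false

namespace CfsgLib.Chevalley.Data.E7

theorem comm_block0 :
    allLt (fun j => !(Nat.blt (21 * 0 + j) tbl.n) || (fun r => allLt (tbl.chkCommPair r) tbl.n) (21 * 0 + j)) 21 = true := by decide +kernel

theorem comm_block1 :
    allLt (fun j => !(Nat.blt (21 * 1 + j) tbl.n) || (fun r => allLt (tbl.chkCommPair r) tbl.n) (21 * 1 + j)) 21 = true := by decide +kernel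

theorem comm_block2 :
    allLt (fun j => !(Nat.blt (21 * 2 + j) tbl.n) || (fun r => allLt (tbl.chkCommPair r) tbl.n) (21 * 2 + j)) 21 = true := by decide +kernel

theorem comm_block3 :
    allLt (fun j => !(Nat.blt (21 * 3 + j) tbl.n) || (fun r => allLt (tbl.chkCommPair r) tbl.n) (21 * 3 + j)) 21 = true := by decide +kernel

theorem comm_block4 :
    allLt (fun j => !(Nat.blt (21 * 4 + j) tbl.n) || (fun r => allLt (tbl.chkCommPair r) tbl.n) (21 * 4 + j)) 21 = true := by decide +kernel

theorem comm_block5 :
    allLt (fun j => !(Nat.blt (21 * 5 + j) tbl.n) || (fun r => allLt (tbl.chkCommPair r) tbl.n) (21 * 5 + j)) 21 = true := by decide +kernel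

theorem chkComm : tbl.chkComm = true := by
  refine Tbl.allLt_of_blocks (k := 21) (b := 6) (by norm_num) (by decide) fun c hc => ?_
  interval_cases c
  · exact comm_block0
  · exact comm_block1
  · exact comm_block2
  · exact comm_block3
  · exact comm_block4
  · exact comm_block5

end CfsgLib.Chevalley.Data.E7
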