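import Cfsg.Agent.Lib.Chevalley.Data.E8Table

set_option autoImplicit false
set_option maxRecDepth 20000
set_option Elab.async false

namespace CfsgLib.Chevalley.Data.E8

open Cfsg.Lie

theorem jacs_part2_0 : allLt (fun s => !(Nat.beq (s % 2) 0) ||
    allLt (fun x => tbl.chkJac (tbl.simple 2) s x) (s + 1)) tbl.n = true := by decide +kernel

theorem jacs_part2_1 : allLt (fun s => !(Nat.beq (s % 2) 1) ||
    allLt (fun x => tbl.chkJac (tbl.simple 2) s x) (s + 1)) tbl.n = true := by decide +kernel

theorem jacs_part3_0 : allLt (fun s => !(Nat.beq (s % 2) 0) ||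
    allLt (fun x => tbl.chkJac (tbl.simple 3) s x) (s + 1)) tbl.n = true := by decide +kernel

theorem jacs_part3_1 : allLt (fun s => !(Nat.beq (s % 2) 1) ||
    allLt (fun x => tbl.chkJac (tbl.simple 3) s x) (s + 1)) tbl.n = true := by decide +kernel

end CfsgLib.Chevalley.Data.E8
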