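import Cfsg.Agent.Lib.Chevalley.Data.E8Table

set_option autoImplicit false
set_option maxRecDepth 20000
set_option Elab.async false

namespace CfsgLib.Chevalley.Data.E8

open Cfsg.Lie

theorem pairs_block0 :
    allLt (fun j => !(Nat.blt (20 * 0 + j) tbl.n) || (fun r => allLt (tbl.chkPair r) tbl.n) (20 * 0 + j)) 20 = true := by decide +kernel

theorem pairs_block1 :
    allLt (fun j => !(Nat.blt (20 * 1 + j) tbl.n) || (fun r => allLt (tbl.chkPair r) tbl.n) (20 * 1 + j)) 20 = true := by decide +kernel

theorem pairs_block2 :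
    allLt (fun j => !(Nat.blt (20 * 2 + j) tbl.n) || (fun r => allLt (tbl.chkPair r) tbl.n) (20 * 2 + j)) 20 = true := by decide +kernel

theorem pairs_block3 :
    allLt (fun j => !(Nat.blt (20 * 3 + j) tbl.n) || (fun r => allLt (tbl.chkPair r) tbl.n) (20 * 3 + j)) 20 = true := by decide +kernel

theorem pairs_block4 :
    allLt (fun j => !(Nat.blt (20 * 4 + j) tbl.n) || (fun r => allLt (tbl.chkPair r) tbl.n) (20 * 4 + j)) 20 = true := by decide +kernel

theorem pairs_block5 :
    allLt (fun j => !(Nat.blt (20 * 5 + j) tbl.n) || (fun r => allLt (tbl.chkPair r) tbl.n) (20 * 5 + j)) 20 = true := by decide +kernel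

theorem pairs_block6 :
    allLt (fun j => !(Nat.blt (20 * 6 + j) tbl.n) || (fun r => allLt (tbl.chkPair r) tbl.n) (20 * 6 + j)) 20 = true := by decide +kernel

theorem pairs_block7 :
    allLt (fun j => !(Nat.blt (20 * 7 + j) tbl.n) || (fun r => allLt (tbl.chkPair r) tbl.n) (20 * 7 + j)) 20 = true := by decide +kernel

theorem pairs_block8 :
    allLt (fun j => !(Nat.blt (20 * 8 + j) tbl.n) || (fun r => allLt (tbl.chkPair r) tbl.n) (20 * 8 + j)) 20 = true := by decide +kernel

theorem pairs_block9 :
    allLt (fun j => !(Nat.blt (20 * 9 + j) tbl.n) || (fun r => allLt (tbl.chkPair r) tbl.n) (20 * 9 + j)) 20 = true := by decide +kernel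

theorem pairs_block10 :
    allLt (fun j => !(Nat.blt (20 * 10 + j) tbl.n) || (fun r => allLt (tbl.chkPair r) tbl.n) (20 * 10 + j)) 20 = true := by decide +kernel

theorem pairs_block11 :
    allLt (fun j => !(Nat.blt (20 * 11 + j) tbl.n) || (fun r => allLt (tbl.chkPair r) tbl.n) (20 * 11 + j)) 20 = true := by decide +kernel

theorem ns_part0 : (tbl.chkN 0 && tbl.chkSimple 0) = true := by decide +kernel

theorem ns_part1 : (tbl.chkN 1 && tbl.chkSimple 1) = true := by decide +kernel

theorem ns_part2 : (tbl.chkN 2 && tbl.chkSimple 2) = true := by decide +kernel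

theorem ns_part3 : (tbl.chkN 3 && tbl.chkSimple 3) = true := by decide +kernel

theorem ns_part4 : (tbl.chkN 4 && tbl.chkSimple 4) = true := by decide +kernel

theorem ns_part5 : (tbl.chkN 5 && tbl.chkSimple 5) = true := by decide +kernel

theorem ns_part6 : (tbl.chkN 6 && tbl.chkSimple 6) = true := by decide +kernel

theorem ns_part7 : (tbl.chkN 7 && tbl.chkSimple 7) = true := by decide +kernel

end CfsgLib.Chevalley.Data.E8
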