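import Cfsg.Agent.Lib.Chevalley.Data.E8Chain
import Cfsg.Agent.Lib.Chevalley.Data.E8Pairs
import Cfsg.Agent.Lib.Chevalley.Data.E8Jacs0
import Cfsg.Agent.Lib.Chevalley.Data.E8Jacs1
import Cfsg.Agent.Lib.Chevalley.Data.E8Jacs2
import Cfsg.Agent.Lib.Chevalley.Data.E8Jacs3

/-!
The checks on the table of type E8.
-/

set_option autoImplicit false
set_option maxRecDepth 20000

namespace CfsgLib.Chevalley.Data.E8

open Cfsg.Lie

theorem datum_simpleIdx : tbl.datum.simpleIdx = chevE8.simpleIdx := by decide +kernel
theorem datum_negIdx : tbl.datum.negIdx = chevE8.negIdx := by decide +kernel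
theorem datum_coroot : tbl.datum.coroot = chevE8.coroot := by decide +kernel
theorem datum_cartanSR : tbl.datum.cartanSR = chevE8.cartanSR := by decide +kernel
theorem chain_blocks : allLt (tbl.chkChainBlock chevE8.chain) tbl.n = true := by
  refine Tbl.allLt_of_blocks (k := 20) (b := 12) (by norm_num) (by decide) fun c hc => ?_
  interval_cases c
  · exact chain_block0
  · exact chain_block1
  · exact chain_block2
  · exact chain_block3
  · exact chain_block4
  · exact chain_block5
  · exact chain_block6
  · exact chain_block7
  · exact chain_block8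
  · exact chain_block9
  · exact chain_block10
  · exact chain_block11

theorem datum_chain : tbl.datum.chain = chevE8.chain :=
  Tbl.datum_chain_of tbl (by decide +kernel) chain_blocks

theorem datum_eq : tbl.datum = chevE8 := by
  have key : ∀ a b : ChevalleyDatum, a.rank = b.rank → a.nroots = b.nroots →
      a.simpleIdx = b.simpleIdx → a.negIdx = b.negIdx → a.coroot = b.coroot →
      a.cartanSR = b.cartanSR → a.chain = b.chain → a = b := by
    rintro ⟨⟩ ⟨⟩ rfl rfl rfl rfl rfl rfl rfl; rfl
  exact key _ _ rfl rfl datum_simpleIdx datum_negIdx datum_coroot datum_cartanSR datum_chain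

theorem chkRoots : tbl.chkRoots = true := by decide +kernel
theorem pairs_blocks : allLt (fun r => allLt (tbl.chkPair r) tbl.n) tbl.n = true := by
  refine Tbl.allLt_of_blocks (k := 20) (b := 12) (by norm_num) (by decide) fun c hc => ?_
  interval_cases c
  · exact pairs_block0
  · exact pairs_block1
  · exact pairs_block2
  · exact pairs_block3
  · exact pairs_block4
  · exact pairs_block5
  · exact pairs_block6
  · exact pairs_block7
  · exact pairs_block8
  · exact pairs_block9
  · exact pairs_block10
  · exact pairs_block11

theorem chkPairs : tbl.chkPairs = true := pairs_blocks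
theorem chkJacs : tbl.chkJacs = true := by
  refine allLt_iff.mpr fun i (hi : i < 8) => allLt_iff.mpr fun s hs => ?_
  have h2 : s % 2 = 0 ∨ s % 2 = 1 := by omega
  interval_cases i
  · rcases h2 with h | h
    · simpa [h] using allLt_iff.mp jacs_part0_0 s hs
    · simpa [h] using allLt_iff.mp jacs_part0_1 s hs
  · rcases h2 with h | h
    · simpa [h] using allLt_iff.mp jacs_part1_0 s hs
    · simpa [h] using allLt_iff.mp jacs_part1_1 s hs
  · rcases h2 with h | h
    · simpa [h] using allLt_iff.mp jacs_part2_0 s hs
    · simpa [h] using allLt_iff.mp jacs_part2_1 s hs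
  · rcases h2 with h | h
    · simpa [h] using allLt_iff.mp jacs_part3_0 s hs
    · simpa [h] using allLt_iff.mp jacs_part3_1 s hs
  · rcases h2 with h | h
    · simpa [h] using allLt_iff.mp jacs_part4_0 s hs
    · simpa [h] using allLt_iff.mp jacs_part4_1 s hs
  · rcases h2 with h | h
    · simpa [h] using allLt_iff.mp jacs_part5_0 s hs
    · simpa [h] using allLt_iff.mp jacs_part5_1 s hs
  · rcases h2 with h | h
    · simpa [h] using allLt_iff.mp jacs_part6_0 s hs
    · simpa [h] using allLt_iff.mp jacs_part6_1 s hs
  · rcases h2 with h | h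
    · simpa [h] using allLt_iff.mp jacs_part7_0 s hs
    · simpa [h] using allLt_iff.mp jacs_part7_1 s hs
theorem chkNs : tbl.chkNs = true := by
  refine allLt_iff.mpr fun i (hi : i < 8) => ?_
  interval_cases i
  · exact ns_part0
  · exact ns_part1
  · exact ns_part2
  · exact ns_part3
  · exact ns_part4
  · exact ns_part5
  · exact ns_part6
  · exact ns_part7

theorem valid : tbl.Valid := ⟨chkRoots, chkPairs, chkJacs, chkNs⟩

end CfsgLib.Chevalley.Data.E8
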