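import Cfsg.Agent.Lib.Chevalley.Data.G2
import Cfsg.Agent.Lib.Chevalley.CommCheck

/-!
The commutator check for type G2, row by row.
-/

set_option autoImplicit false
set_option maxRecDepth 20000
set_option Elab.async false

namespace CfsgLib.Chevalley.Data.G2

open Tbl

theorem chkComm_row0 : allLt (tbl.chkCommPair 0) tbl.n = true := by decide +kernel

theorem chkComm_row1 : allLt (tbl.chkCommPair 1) tbl.n = true := by decide +kernel

theorem chkComm_row2 : allLt (tbl.chkCommPair 2) tbl.n = true := by decide +kernel

theorem chkComm_row3 : allLt (tbl.chkCommPair 3) tbl.n = true := by decide +kernel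

theorem chkComm_row4 : allLt (tbl.chkCommPair 4) tbl.n = true := by decide +kernel

theorem chkComm_row5 : allLt (tbl.chkCommPair 5) tbl.n = true := by decide +kernel

theorem chkComm_row6 : allLt (tbl.chkCommPair 6) tbl.n = true := by decide +kernel

theorem chkComm_row7 : allLt (tbl.chkCommPair 7) tbl.n = true := by decide +kernel

theorem chkComm_row8 : allLt (tbl.chkCommPair 8) tbl.n = true := by decide +kernel

theorem chkComm_row9 : allLt (tbl.chkCommPair 9) tbl.n = true := by decide +kernel

theorem chkComm_row10 : allLt (tbl.chkCommPair 10) tbl.n = true := by decide +kernel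

theorem chkComm_row11 : allLt (tbl.chkCommPair 11) tbl.n = true := by decide +kernel

theorem chkComm : tbl.chkComm = true := by
  have hn : tbl.n = 12 := by decide
  refine allLt_iff.mpr fun r hr => ?_
  rw [hn] at hr
  interval_cases r
  · exact chkComm_row0
  · exact chkComm_row1
  · exact chkComm_row2
  · exact chkComm_row3
  · exact chkComm_row4
  · exact chkComm_row5
  · exact chkComm_row6
  · exact chkComm_row7
  · exact chkComm_row8
  · exact chkComm_row9
  · exact chkComm_row10
  · exact chkComm_row11

end CfsgLib.Chevalley.Data.G2
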