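import Cfsg.Agent.Lib.Chevalley.Table
import Cfsg.Prelude.Def_ChevG2

/-!
The table of type G2.
-/

set_option autoImplicit false
set_option maxRecDepth 20000

namespace CfsgLib.Chevalley.Data.G2

open Cfsg.Lie

def row (r : Nat) : Nat :=
  bif Nat.ble 6 r then
   bif Nat.ble 9 r then
    bif Nat.ble 10 r then
     bif Nat.ble 11 r then
      0xb70000a7099079000
     else
      0xc70000a7000089000069
    else
     0xc50b500000009a086000059049
   else
    bif Nat.ble 7 r then
     bif Nat.ble 8 r then
      0xcb0000aa00008707b000056000037
     else
      0xbb0a600009700000006b04a037000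
    else
     0xc9000000099000000000057000000027
  else
   bif Nat.ble 3 r then
    bif Nat.ble 4 r then
     bif Nat.ble 5 r then
      0xb9000000089000000000047000000017000
     else
      0xa909607500000004900003a025000000
    else
     0xa900008a000065059000036000015000000
   else
    bif Nat.ble 1 r then
     bif Nat.ble 2 r then
      0x9708700005a04600000002b01b000000000
     else
      0x77000057000039000019000000000000000
    else
     0x67047039000029000000000000000000

def coRow (r : Nat) : Nat :=
  bif Nat.ble 6 r then
   bif Nat.ble 9 r then
    bif Nat.ble 10 r then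
     bif Nat.ble 11 r then
      0x8283
     else
      0x8183
    else
     0x8182
   else
    bif Nat.ble 7 r then
     bif Nat.ble 8 r then
      0x8181
     else
      0x8081
    else
     0x8180
  else
   bif Nat.ble 3 r then
    bif Nat.ble 4 r then
     bif Nat.ble 5 r then
      0x7f80
     else
      0x807f
    else
     0x7f7f
   else
    bif Nat.ble 1 r then
     bif Nat.ble 2 r then
      0x7f7e
     else
      0x7f7d
    else
     0x7e7d

def cvRow (r : Nat) : Nat :=
  bif Nat.ble 6 r then
   bif Nat.ble 9 r then
    bif Nat.ble 10 r then
     bif Nat.ble 11 r then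
      0x8281
     else
      0x8181
    else
     0x8382
   else
    bif Nat.ble 7 r then
     bif Nat.ble 8 r then
      0x8381
     else
      0x8081
    else
     0x8180
  else
   bif Nat.ble 3 r then
    bif Nat.ble 4 r then
     bif Nat.ble 5 r then
      0x7f80
     else
      0x807f
    else
     0x7d7f
   else
    bif Nat.ble 1 r then
     bif Nat.ble 2 r then
      0x7d7e
     else
      0x7f7f
    else
     0x7e7f

def caRow (r : Nat) : Nat :=
  bif Nat.ble 6 r then
   bif Nat.ble 9 r then
    bif Nat.ble 10 r then
     bif Nat.ble 11 r then
      0x8180
     else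
      0x7f83
    else
     0x8081
   else
    bif Nat.ble 7 r then
     bif Nat.ble 8 r then
      0x817f
     else
      0x7f82
    else
     0x827d
  else
   bif Nat.ble 3 r then
    bif Nat.ble 4 r then
     bif Nat.ble 5 r then
      0x7e83
     else
      0x817e
    else
     0x7f81
   else
    bif Nat.ble 1 r then
     bif Nat.ble 2 r then
      0x807f
     else
      0x817d
    else
     0x7f80

def simple (i : Nat) : Nat :=
  bif Nat.ble 1 i then
   0x6
  else
   0x7

/-- The table of type G2. -/
def tbl : Tbl where
  rank := 2
  half := 6
  row := row
  coRow := coRow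
  cvRow := cvRow
  caRow := caRow
  simple := simple

theorem datum_simpleIdx : tbl.datum.simpleIdx = chevG2.simpleIdx := by decide +kernel
theorem datum_negIdx : tbl.datum.negIdx = chevG2.negIdx := by decide +kernel
theorem datum_coroot : tbl.datum.coroot = chevG2.coroot := by decide +kernel
theorem datum_cartanSR : tbl.datum.cartanSR = chevG2.cartanSR := by decide +kernel
theorem datum_chain : tbl.datum.chain = chevG2.chain := by decide +kernel

theorem datum_eq : tbl.datum = chevG2 := by
  have key : ∀ a b : ChevalleyDatum, a.rank = b.rank → a.nroots = b.nroots →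
      a.simpleIdx = b.simpleIdx → a.negIdx = b.negIdx → a.coroot = b.coroot →
      a.cartanSR = b.cartanSR → a.chain = b.chain → a = b := by
    rintro ⟨⟩ ⟨⟩ rfl rfl rfl rfl rfl rfl rfl; rfl
  exact key _ _ rfl rfl datum_simpleIdx datum_negIdx datum_coroot datum_cartanSR datum_chain

theorem chkRoots : tbl.chkRoots = true := by decide +kernel
theorem chkPairs : tbl.chkPairs = true := by decide +kernel
theorem chkJacs : tbl.chkJacs = true := by decide +kernel
theorem chkNs : tbl.chkNs = true := by decide +kernel

theorem valid : tbl.Valid := ⟨chkRoots, chkPairs, chkJacs, chkNs⟩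

end CfsgLib.Chevalley.Data.G2
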