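import Cfsg.Agent.Lib.Chevalley.StCheck
import Cfsg.Agent.Lib.Chevalley.Data.G2
import Cfsg.Agent.Lib.Chevalley.Data.B2
import Cfsg.Agent.Lib.Chevalley.Data.D4
import Cfsg.Agent.Lib.Chevalley.Data.F4
import Cfsg.Agent.Lib.Chevalley.Data.E6
import Cfsg.Agent.Lib.Chevalley.Data.E7
import Cfsg.Agent.Lib.Chevalley.Data.E8

/-! The certificates for the presented groups. -/

set_option autoImplicit false
set_option Elab.async false
set_option maxHeartbeats 4000000
set_option maxRecDepth 100000

namespace CfsgLib.Chevalley.Data.G2
theorem chkSorted : tbl.chkSorted = true := by decide +kernel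
theorem chkSplit : tbl.chkSplit = true := by decide +kernel
end CfsgLib.Chevalley.Data.G2

namespace CfsgLib.Chevalley.Data.B2
theorem chkSorted : tbl.chkSorted = true := by decide +kernel
theorem chkSplit : tbl.chkSplit = true := by decide +kernel
end CfsgLib.Chevalley.Data.B2

namespace CfsgLib.Chevalley.Data.D4
theorem chkSorted : tbl.chkSorted = true := by decide +kernel
theorem chkSplit : tbl.chkSplit = true := by decide +kernel
end CfsgLib.Chevalley.Data.D4

namespace CfsgLib.Chevalley.Data.F4
theorem chkSorted : tbl.chkSorted = true := by decide +kernel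
theorem chkSplit : tbl.chkSplit = true := by decide +kernel
end CfsgLib.Chevalley.Data.F4

namespace CfsgLib.Chevalley.Data.E6
theorem chkSorted : tbl.chkSorted = true := by decide +kernel
theorem chkSplit : tbl.chkSplit = true := by decide +kernel
end CfsgLib.Chevalley.Data.E6

namespace CfsgLib.Chevalley.Data.E7
theorem chkSorted : tbl.chkSorted = true := by decide +kernel
theorem chkSplit : tbl.chkSplit = true := by decide +kernel
end CfsgLib.Chevalley.Data.E7

namespace CfsgLib.Chevalley.Data.E8
theorem chkSorted : tbl.chkSorted = true := by decide +kernel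
theorem chkSplit : tbl.chkSplit = true := by decide +kernel
end CfsgLib.Chevalley.Data.E8
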