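import Cfsg.Agent.Lib.Chevalley.Twist.Weyl1Check
import Cfsg.Agent.Lib.Chevalley.Data.D4

/-!
The twisted Weyl group inside type D4, element by element.
-/

set_option autoImplicit false
set_option maxRecDepth 100000
set_option maxHeartbeats 4000000
set_option Elab.async false

namespace CfsgLib.Chevalley.Data.D4

/-- The orbit words. -/
def orbWords : List (List ℕ) := [[1], [0, 2, 3]]

/-- The entries. -/
def eltEnt (m : ℕ) : Ent :=
  bif Nat.ble 6 m then
    bif Nat.ble 9 m then
     bif Nat.ble 10 m then
      bif Nat.ble 11 m then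
       ⟨7144851133927659756225170700, 0, 0, 0, 0, [9, 10]⟩
     else
       ⟨7135151319237097063649249803, 1, 11, 1, 3, [8, 11]⟩
    else
      ⟨6836575049854153184678318095, 1, 11, 0, 1, [11, 7]⟩
   else
     bif Nat.ble 7 m then
      bif Nat.ble 8 m then
       ⟨6819607457877715444498368264, 2, 10, 0, 4, [10, 6]⟩
     else
       ⟨4360666562360209635845149717, 2, 9, 1, 4, [5, 9]⟩
    else
      ⟨4334051195187986597626184450, 3, 8, 1, 7, [4, 8]⟩
  else
    bif Nat.ble 3 m then
     bif Nat.ble 4 m then
      bif Nat.ble 5 m then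
       ⟨2812018364922130126497387541, 3, 7, 0, 5, [7, 3]⟩
     else
       ⟨2785402997749907088278422274, 4, 6, 0, 8, [6, 2]⟩
    else
      ⟨326462102232401279625203727, 4, 5, 1, 8, [1, 5]⟩
   else
     bif Nat.ble 1 m then
      bif Nat.ble 2 m then
       ⟨309494510255963539445253896, 5, 4, 1, 11, [0, 4]⟩
     else
       ⟨10918240873019660474322188, 5, 3, 0, 9, [3, 0]⟩
    else
      ⟨1218426182456967898401291, 6, 1, 1, 12, [2, 1]⟩

/-- The listed elements. -/
def elts : Elts := ⟨12, eltEnt, [541649279090809664310305499994679834166397163664360734721, 565304928284384309385694042081618298355605787515640350976], 1⟩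

theorem chk_elts : tbl.chkElts orbWords elts = true := by decide +kernel

end CfsgLib.Chevalley.Data.D4
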