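import Cfsg.Agent.Lib.Chevalley.Data.D4
import Cfsg.Agent.Lib.Chevalley.PoincareCheck

/-!
Coset representatives in the reflection group of type D4.
-/

set_option autoImplicit false
set_option maxRecDepth 20000
set_option Elab.async false

namespace CfsgLib.Chevalley.Data.D4.Reps

open CfsgLib.Chevalley

/-- Representatives at step 0. -/
def reps0 : List Rep :=
  [ ⟨0xc0d0e12, 0, 0, 0, 0, [1]⟩,
    ⟨0xc0d1305, 1, 0, 0, 18, [0]⟩ ]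

theorem chk0 : tbl.chkStep 0 reps0 = true := by decide +kernel

/-- Representatives at step 1. -/
def reps1 : List Rep :=
  [ ⟨0xc0d0e12, 0, 0, 0, 0, [3, 1]⟩,
    ⟨0xf100913, 1, 0, 1, 14, [2, 0]⟩,
    ⟨0x1415040e, 2, 1, 0, 19, [1, 3]⟩ ]

theorem chk1 : tbl.chkStep 1 reps1 = true := by decide +kernel

/-- Representatives at step 2. -/
def reps2 : List Rep :=
  [ ⟨0xc0d0e12, 0, 0, 0, 0, [4, 5, 1]⟩,
    ⟨0xc0a1012, 1, 0, 2, 13, [4, 2, 0]⟩,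
    ⟨0xf070d13, 2, 1, 1, 16, [3, 1, 5]⟩,
    ⟨0x14020d0e, 3, 2, 0, 21, [2, 4, 5]⟩ ]

theorem chk2 : tbl.chkStep 2 reps2 = true := by decide +kernel

/-- Representatives at step 3. -/
def reps3 : List Rep :=
  [ ⟨0xc0d0e12, 0, 0, 0, 0, [8, 9, 10, 1]⟩,
    ⟨0xb0d0f12, 1, 0, 3, 12, [8, 2, 10, 0]⟩,
    ⟨0x8100c13, 2, 1, 1, 15, [3, 1, 4, 9]⟩,
    ⟨0x3150c0e, 3, 2, 0, 20, [2, 8, 5, 9]⟩,
    ⟨0x60e0c15, 3, 2, 2, 17, [5, 10, 2, 9]⟩,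
    ⟨0x1130c10, 4, 3, 2, 17, [4, 6, 3, 9]⟩,
    ⟨0x120f0d, 5, 5, 1, 22, [10, 5, 8, 7]⟩,
    ⟨0x120e0d, 6, 6, 3, 23, [10, 9, 8, 6]⟩ ]

theorem chk3 : tbl.chkStep 3 reps3 = true := by decide +kernel

theorem chkPoly_reps : chkPoly [reps0, reps1, reps2, reps3] [2, 4, 4, 6] = true := by decide +kernel

end CfsgLib.Chevalley.Data.D4.Reps
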