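import Cfsg.Agent.Lib.Chevalley.Data.E6
import Cfsg.Agent.Lib.Chevalley.PoincareCheck

/-!
Coset representatives in the reflection group of type E6.
-/

set_option autoImplicit false
set_option maxRecDepth 20000
set_option Elab.async false

namespace CfsgLib.Chevalley.Data.E6.Reps

open CfsgLib.Chevalley

/-- Representatives at step 0. -/
def reps0 : List Rep :=
  [ ⟨0x2425272a2e38, 0, 0, 0, 0, [1]⟩,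
    ⟨0x242527392e0f, 1, 0, 0, 56, [0]⟩ ]

theorem chk0 : tbl.chkStep 0 reps0 = true := by decide +kernel

/-- Representatives at step 1. -/
def reps1 : List Rep :=
  [ ⟨0x2425272a2e38, 0, 0, 0, 0, [2, 1]⟩,
    ⟨0x24252f2a1938, 1, 0, 1, 46, [2, 0]⟩ ]

theorem chk1 : tbl.chkStep 1 reps1 = true := by decide +kernel

/-- Representatives at step 2. -/
def reps2 : List Rep :=
  [ ⟨0x2425272a2e38, 0, 0, 0, 0, [3, 4, 1]⟩,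
    ⟨0x24252b1d2e39, 1, 0, 2, 42, [2, 4, 0]⟩,
    ⟨0x24253a0e2e2a, 2, 1, 0, 57, [1, 4, 3]⟩ ]

theorem chk2 : tbl.chkStep 2 reps2 = true := by decide +kernel

/-- Representatives at step 3. -/
def reps3 : List Rep :=
  [ ⟨0x2425272a2e38, 0, 0, 0, 0, [10, 11, 12, 1]⟩,
    ⟨0x2428202b2f38, 1, 0, 3, 39, [10, 2, 3, 0]⟩,
    ⟨0x243018322738, 2, 1, 1, 47, [10, 1, 4, 11]⟩,
    ⟨0x242c1c273239, 2, 1, 2, 43, [5, 4, 1, 12]⟩,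
    ⟨0x2433152f2b39, 3, 2, 2, 43, [6, 3, 2, 7]⟩,
    ⟨0x243b0d273d2a, 3, 3, 0, 58, [3, 6, 10, 12]⟩,
    ⟨0x243e0a2f3a2a, 4, 4, 0, 58, [4, 5, 10, 8]⟩,
    ⟨0x2435152e2a3a, 4, 4, 3, 50, [8, 12, 11, 4]⟩,
    ⟨0x24400a2e392b, 5, 6, 3, 50, [7, 12, 9, 6]⟩,
    ⟨0x24430a2e3827, 6, 8, 2, 61, [11, 12, 8, 10]⟩ ]

theorem chk3 : tbl.chkStep 3 reps3 = true := by decide +kernel

/-- Representatives at step 4. -/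
def reps4 : List Rep :=
  [ ⟨0x2425272a2e38, 0, 0, 0, 0, [16, 17, 18, 19, 1]⟩,
    ⟨0x2622282a2e38, 1, 0, 4, 37, [16, 17, 18, 2, 0]⟩,
    ⟨0x291f252b2f38, 2, 1, 3, 40, [16, 3, 4, 1, 19]⟩,
    ⟨0x311725322738, 3, 2, 1, 48, [16, 2, 5, 17, 19]⟩,
    ⟨0x2d1b25273239, 3, 2, 2, 44, [6, 5, 2, 18, 19]⟩,
    ⟨0x3414252f2b39, 4, 3, 2, 44, [7, 4, 3, 8, 19]⟩,
    ⟨0x3c0c25273d2a, 4, 4, 0, 59, [4, 7, 16, 18, 19]⟩,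
    ⟨0x3f09252f3a2a, 5, 5, 0, 59, [5, 6, 16, 9, 19]⟩,
    ⟨0x3612282e2a3a, 5, 5, 3, 51, [9, 18, 17, 5, 10]⟩,
    ⟨0x4107282e392b, 6, 7, 3, 51, [8, 18, 11, 7, 12]⟩,
    ⟨0x3712272e2a3b, 6, 8, 4, 53, [12, 18, 17, 19, 8]⟩,
    ⟨0x44042c2e3827, 7, 9, 2, 62, [17, 18, 9, 16, 13]⟩,
    ⟨0x4207272e392c, 7, 9, 4, 53, [10, 18, 13, 19, 9]⟩,
    ⟨0x45042b2e3828, 8, 11, 4, 53, [17, 18, 12, 14, 11]⟩,
    ⟨0x46042a2f3825, 9, 13, 3, 64, [17, 15, 19, 13, 16]⟩,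
    ⟨0x47042a273825, 10, 14, 1, 67, [17, 14, 19, 18, 16]⟩ ]

theorem chk4 : tbl.chkStep 4 reps4 = true := by decide +kernel

/-- Representatives at step 5. -/
def reps5 : List Rep :=
  [ ⟨0x2425272a2e38, 0, 0, 0, 0, [27, 28, 29, 30, 31, 1]⟩,
    ⟨0x2326272a2e38, 1, 0, 5, 36, [27, 28, 29, 30, 2, 0]⟩,
    ⟨0x2124282a2e38, 2, 1, 4, 38, [27, 28, 29, 3, 1, 31]⟩,
    ⟨0x1e24252b2f38, 3, 2, 3, 41, [27, 4, 5, 2, 30, 31]⟩,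
    ⟨0x162425322738, 4, 3, 1, 49, [27, 3, 6, 28, 30, 31]⟩,
    ⟨0x1a2425273239, 4, 3, 2, 45, [7, 6, 3, 29, 30, 31]⟩,
    ⟨0x1324252f2b39, 5, 4, 2, 45, [8, 5, 4, 9, 30, 31]⟩,
    ⟨0xb2425273d2a, 5, 5, 0, 60, [5, 8, 27, 29, 30, 31]⟩,
    ⟨0x824252f3a2a, 6, 6, 0, 60, [6, 7, 27, 10, 30, 31]⟩,
    ⟨0x1124282e2a3a, 6, 6, 3, 52, [10, 29, 28, 6, 11, 31]⟩,
    ⟨0x624282e392b, 7, 8, 3, 52, [9, 29, 12, 8, 13, 31]⟩,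
    ⟨0x1026272e2a3b, 7, 9, 4, 54, [13, 29, 28, 30, 9, 14]⟩,
    ⟨0x3242c2e3827, 8, 10, 2, 63, [28, 29, 10, 27, 15, 31]⟩,
    ⟨0x526272e392c, 8, 10, 4, 54, [11, 29, 15, 30, 10, 16]⟩,
    ⟨0x1025272e2a3c, 8, 11, 5, 55, [16, 29, 28, 30, 31, 11]⟩,
    ⟨0x2262b2e3828, 9, 12, 4, 54, [28, 29, 13, 17, 12, 18]⟩,
    ⟨0x525272e392d, 9, 13, 5, 55, [14, 29, 18, 30, 31, 13]⟩,
    ⟨0x1292a2f3825, 10, 15, 3, 65, [28, 19, 30, 15, 27, 20]⟩,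
    ⟨0x2252b2e3829, 10, 15, 5, 55, [28, 29, 16, 20, 31, 15]⟩,
    ⟨0x312a273825, 11, 17, 1, 68, [28, 17, 30, 29, 27, 21]⟩,
    ⟨0x1282a2f3826, 11, 17, 5, 55, [28, 21, 30, 18, 22, 17]⟩,
    ⟨0x302a273826, 12, 19, 5, 55, [28, 20, 30, 29, 23, 19]⟩,
    ⟨0x1272a303824, 12, 20, 4, 66, [28, 23, 30, 31, 20, 27]⟩,
    ⟨0x2f2a283824, 13, 21, 4, 66, [28, 22, 30, 24, 21, 27]⟩,
    ⟨0x2e2b253824, 14, 23, 3, 69, [28, 31, 25, 23, 29, 27]⟩,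
    ⟨0x2e27253924, 15, 24, 2, 70, [26, 31, 24, 30, 29, 27]⟩,
    ⟨0x2e27252a24, 16, 25, 0, 71, [25, 31, 28, 30, 29, 27]⟩ ]

theorem chk5 : tbl.chkStep 5 reps5 = true := by decide +kernel

theorem chkPoly_reps : chkPoly [reps0, reps1, reps2, reps3, reps4, reps5] [2, 5, 6, 8, 9, 12] = true := by decide +kernel

end CfsgLib.Chevalley.Data.E6.Reps
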