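import Cfsg.Agent.Lib.Chevalley.Data.F4
import Cfsg.Agent.Lib.Chevalley.PoincareCheck

/-!
Coset representatives in the reflection group of type F4.
-/

set_option autoImplicit false
set_option maxRecDepth 20000
set_option Elab.async false

namespace CfsgLib.Chevalley.Data.F4.Reps

open CfsgLib.Chevalley

/-- Representatives at step 0. -/
def reps0 : List Rep :=
  [ ⟨0x18191b21, 0, 0, 0, 0, [1]⟩,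
    ⟨0x1819220e, 1, 0, 0, 33, [0]⟩ ]

theorem chk0 : tbl.chkStep 0 reps0 = true := by decide +kernel

/-- Representatives at step 1. -/
def reps1 : List Rep :=
  [ ⟨0x18191b21, 0, 0, 0, 0, [3, 1]⟩,
    ⟨0x181e1422, 1, 0, 1, 27, [2, 0]⟩,
    ⟨0x18290d1b, 2, 1, 0, 34, [1, 3]⟩ ]

theorem chk1 : tbl.chkStep 1 reps1 = true := by decide +kernel

/-- Representatives at step 2. -/
def reps2 : List Rep :=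
  [ ⟨0x18191b21, 0, 0, 0, 0, [8, 9, 1]⟩,
    ⟨0x1a161c21, 1, 0, 2, 25, [8, 2, 0]⟩,
    ⟨0x1f111c22, 2, 1, 1, 28, [3, 1, 4]⟩,
    ⟨0x2a06231b, 3, 2, 0, 35, [2, 8, 5]⟩,
    ⟨0x20111b23, 3, 2, 2, 30, [5, 9, 2]⟩,
    ⟨0x2b06221c, 4, 3, 2, 30, [4, 6, 3]⟩,
    ⟨0x2d06211c, 5, 5, 1, 37, [9, 5, 7]⟩,
    ⟨0x2e06211b, 6, 6, 2, 41, [9, 8, 6]⟩ ]

theorem chk2 : tbl.chkStep 2 reps2 = true := by decide +kernel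

/-- Representatives at step 3. -/
def reps3 : List Rep :=
  [ ⟨0x18191b21, 0, 0, 0, 0, [24, 25, 26, 1]⟩,
    ⟨0x171a1b21, 1, 0, 3, 24, [24, 25, 2, 0]⟩,
    ⟨0x15181c21, 2, 1, 2, 26, [24, 3, 1, 26]⟩,
    ⟨0x10181c22, 3, 2, 1, 29, [4, 2, 5, 26]⟩,
    ⟨0x518231b, 4, 3, 0, 36, [3, 24, 6, 26]⟩,
    ⟨0xf1a1b23, 4, 3, 2, 31, [6, 25, 3, 7]⟩,
    ⟨0x41a221c, 5, 4, 2, 31, [5, 8, 4, 9]⟩,
    ⟨0xf191b24, 5, 5, 3, 32, [9, 25, 26, 5]⟩,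
    ⟨0x21f211c, 6, 6, 1, 38, [25, 6, 10, 11]⟩,
    ⟨0x419221d, 6, 6, 3, 32, [7, 11, 26, 6]⟩,
    ⟨0x120211b, 7, 8, 2, 42, [25, 24, 8, 12]⟩,
    ⟨0x21e211d, 7, 8, 3, 32, [25, 9, 13, 8]⟩,
    ⟨0x20211b, 8, 10, 3, 47, [25, 24, 14, 10]⟩,
    ⟨0x11e211d, 8, 11, 2, 47, [25, 15, 11, 14]⟩,
    ⟨0x1f211c, 9, 12, 2, 32, [25, 16, 12, 13]⟩,
    ⟨0x119221d, 9, 13, 1, 39, [17, 13, 26, 16]⟩,
    ⟨0x1a221c, 10, 14, 1, 39, [18, 14, 19, 15]⟩,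
    ⟨0x1191b24, 10, 15, 0, 40, [15, 25, 26, 18]⟩,
    ⟨0x1a1b23, 11, 16, 0, 40, [16, 25, 20, 17]⟩,
    ⟨0x18231b, 11, 16, 2, 43, [20, 24, 16, 26]⟩,
    ⟨0x181c22, 12, 18, 2, 43, [19, 21, 18, 26]⟩,
    ⟨0x181c21, 13, 20, 1, 44, [24, 20, 22, 26]⟩,
    ⟨0x1a1b21, 14, 21, 2, 45, [24, 25, 21, 23]⟩,
    ⟨0x1191b21, 15, 22, 3, 46, [24, 25, 26, 22]⟩ ]

theorem chk3 : tbl.chkStep 3 reps3 = true := by decide +kernel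

theorem chkPoly_reps : chkPoly [reps0, reps1, reps2, reps3] [2, 6, 8, 12] = true := by decide +kernel

end CfsgLib.Chevalley.Data.F4.Reps
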