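import Cfsg.Agent.Lib.Chevalley.Data.G2Reps
import Cfsg.Agent.Lib.Chevalley.Data.B2Reps
import Cfsg.Agent.Lib.Chevalley.Data.D4Reps
import Cfsg.Agent.Lib.Chevalley.Data.F4Reps
import Cfsg.Agent.Lib.Chevalley.Data.E6Reps
import Cfsg.Agent.Lib.Chevalley.Data.E7Reps
import Cfsg.Agent.Lib.Chevalley.Data.E8Reps

/-!
The certificates for the length generating functions.
-/

set_option autoImplicit false

namespace CfsgLib.Chevalley.Data

/-- The steps for type G2. -/
def G2.steps : List (List Rep) := [G2.Reps.reps0, G2.Reps.reps1]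

theorem G2.chkSteps : ∀ j < G2.tbl.rank, G2.tbl.chkStep j (G2.steps.getD j []) = true := by
  intro j hj
  change j < 2 at hj
  interval_cases j
  · exact G2.Reps.chk0
  · exact G2.Reps.chk1

theorem G2.steps_length : G2.steps.length = G2.tbl.rank := rfl

/-- The steps for type B2. -/
def B2.steps : List (List Rep) := [B2.Reps.reps0, B2.Reps.reps1]

theorem B2.chkSteps : ∀ j < B2.tbl.rank, B2.tbl.chkStep j (B2.steps.getD j []) = true := by
  intro j hj
  change j < 2 at hj
  interval_cases j
  · exact B2.Reps.chk0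
  · exact B2.Reps.chk1

theorem B2.steps_length : B2.steps.length = B2.tbl.rank := rfl

/-- The steps for type D4. -/
def D4.steps : List (List Rep) := [D4.Reps.reps0, D4.Reps.reps1, D4.Reps.reps2, D4.Reps.reps3]

theorem D4.chkSteps : ∀ j < D4.tbl.rank, D4.tbl.chkStep j (D4.steps.getD j []) = true := by
  intro j hj
  change j < 4 at hj
  interval_cases j
  · exact D4.Reps.chk0
  · exact D4.Reps.chk1
  · exact D4.Reps.chk2
  · exact D4.Reps.chk3

theorem D4.steps_length : D4.steps.length = D4.tbl.rank := rfl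

/-- The steps for type F4. -/
def F4.steps : List (List Rep) := [F4.Reps.reps0, F4.Reps.reps1, F4.Reps.reps2, F4.Reps.reps3]

theorem F4.chkSteps : ∀ j < F4.tbl.rank, F4.tbl.chkStep j (F4.steps.getD j []) = true := by
  intro j hj
  change j < 4 at hj
  interval_cases j
  · exact F4.Reps.chk0
  · exact F4.Reps.chk1
  · exact F4.Reps.chk2
  · exact F4.Reps.chk3

theorem F4.steps_length : F4.steps.length = F4.tbl.rank := rfl

/-- The steps for type E6. -/
def E6.steps : List (List Rep) := [E6.Reps.reps0, E6.Reps.reps1, E6.Reps.reps2, E6.Reps.reps3, E6.Reps.reps4, E6.Reps.reps5]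

theorem E6.chkSteps : ∀ j < E6.tbl.rank, E6.tbl.chkStep j (E6.steps.getD j []) = true := by
  intro j hj
  change j < 6 at hj
  interval_cases j
  · exact E6.Reps.chk0
  · exact E6.Reps.chk1
  · exact E6.Reps.chk2
  · exact E6.Reps.chk3
  · exact E6.Reps.chk4
  · exact E6.Reps.chk5

theorem E6.steps_length : E6.steps.length = E6.tbl.rank := rfl

/-- The steps for type E7. -/
def E7.steps : List (List Rep) := [E7.Reps.reps0, E7.Reps.reps1, E7.Reps.reps2, E7.Reps.reps3, E7.Reps.reps4, E7.Reps.reps5, E7.Reps.reps6]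

theorem E7.chkSteps : ∀ j < E7.tbl.rank, E7.tbl.chkStep j (E7.steps.getD j []) = true := by
  intro j hj
  change j < 7 at hj
  interval_cases j
  · exact E7.Reps.chk0
  · exact E7.Reps.chk1
  · exact E7.Reps.chk2
  · exact E7.Reps.chk3
  · exact E7.Reps.chk4
  · exact E7.Reps.chk5
  · exact E7.Reps.chk6

theorem E7.steps_length : E7.steps.length = E7.tbl.rank := rfl

/-- The steps for type E8. -/
def E8.steps : List (List Rep) := [E8.Reps.reps0, E8.Reps.reps1, E8.Reps.reps2, E8.Reps.reps3, E8.Reps.reps4, E8.Reps.reps5, E8.Reps.reps6, E8.Reps.reps7]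

theorem E8.chkSteps : ∀ j < E8.tbl.rank, E8.tbl.chkStep j (E8.steps.getD j []) = true := by
  intro j hj
  change j < 8 at hj
  interval_cases j
  · exact E8.Reps.chk0
  · exact E8.Reps.chk1
  · exact E8.Reps.chk2
  · exact E8.Reps.chk3
  · exact E8.Reps.chk4
  · exact E8.Reps.chk5
  · exact E8.Reps.chk6
  · exact E8.Reps.chk7

theorem E8.steps_length : E8.steps.length = E8.tbl.rank := rfl

end CfsgLib.Chevalley.Data
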