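import Cfsg.Agent.Lib.Chevalley.PerfectCheck
import Cfsg.Agent.Lib.Chevalley.Data.G2
import Cfsg.Agent.Lib.Chevalley.Data.B2
import Cfsg.Agent.Lib.Chevalley.Data.D4
import Cfsg.Agent.Lib.Chevalley.Data.F4
import Cfsg.Agent.Lib.Chevalley.Data.E6
import Cfsg.Agent.Lib.Chevalley.Data.E7
import Cfsg.Agent.Lib.Chevalley.Data.E8

/-!
The certificates for the seven types.
-/

set_option autoImplicit false
set_option maxRecDepth 20000
set_option Elab.async false

namespace CfsgLib.Chevalley.Data

theorem G2.chkPerfect : G2.tbl.chkPerfect true = true := by decide +kernel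

theorem G2.chkConn : G2.tbl.chkConn = true := by decide +kernel

theorem B2.chkPerfect : B2.tbl.chkPerfect true = true := by decide +kernel

theorem B2.chkConn : B2.tbl.chkConn = true := by decide +kernel

theorem D4.chkPerfect : D4.tbl.chkPerfect false = true := by decide +kernel

theorem D4.chkConn : D4.tbl.chkConn = true := by decide +kernel

theorem F4.chkPerfect : F4.tbl.chkPerfect false = true := by decide +kernel

theorem F4.chkConn : F4.tbl.chkConn = true := by decide +kernel

theorem E6.chkPerfect : E6.tbl.chkPerfect false = true := by decide +kernel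

theorem E6.chkConn : E6.tbl.chkConn = true := by decide +kernel

theorem E7.chkPerfect : E7.tbl.chkPerfect false = true := by decide +kernel

theorem E7.chkConn : E7.tbl.chkConn = true := by decide +kernel

theorem E8.chkPerfect : E8.tbl.chkPerfect false = true := by decide +kernel

theorem E8.chkConn : E8.tbl.chkConn = true := by decide +kernel

end CfsgLib.Chevalley.Data
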