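import Cfsg.Agent.Lib.Chevalley.PerfectCheck
import Cfsg.Prelude.Def_ChevStructure
import Cfsg.Agent.Lib.Chevalley.Data.G2
import Cfsg.Agent.Lib.Chevalley.Data.B2
import Cfsg.Agent.Lib.Chevalley.Data.D4
import Cfsg.Agent.Lib.Chevalley.Data.F4
import Cfsg.Agent.Lib.Chevalley.Data.E6
import Cfsg.Agent.Lib.Chevalley.Data.E7
import Cfsg.Agent.Lib.Chevalley.Data.E8

/-!
Orders of products of fundamental reflections.
-/

set_option autoImplicit false
set_option maxRecDepth 20000
set_option Elab.async false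

namespace CfsgLib.Chevalley.Data

theorem G2.coxOrd : ∀ i j : Fin 2, G2.tbl.chkOrd [i.val, j.val] (CoxeterMatrix.G₂.M i j) = true := by
  decide +kernel

theorem G2.coxElt : G2.tbl.chkOrd ((List.finRange 2).map Fin.val) 6 = true := by
  decide +kernel

theorem B2.coxOrd : ∀ i j : Fin 2, B2.tbl.chkOrd [i.val, j.val] ((CoxeterMatrix.B 2).M i j) = true := by
  decide +kernel

theorem B2.coxElt : B2.tbl.chkOrd ((List.finRange 2).map Fin.val) 4 = true := by
  decide +kernel

theorem D4.coxOrd : ∀ i j : Fin 4, D4.tbl.chkOrd [i.val, j.val] (Cfsg.Lie.coxeterD4.M i j) = true := by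
  decide +kernel

theorem D4.coxElt : D4.tbl.chkOrd ((List.finRange 4).map Fin.val) 6 = true := by
  decide +kernel

theorem F4.coxOrd : ∀ i j : Fin 4, F4.tbl.chkOrd [i.val, j.val] (CoxeterMatrix.F₄.M i j) = true := by
  decide +kernel

theorem F4.coxElt : F4.tbl.chkOrd ((List.finRange 4).map Fin.val) 12 = true := by
  decide +kernel

theorem E6.coxOrd : ∀ i j : Fin 6, E6.tbl.chkOrd [i.val, j.val] (CoxeterMatrix.E₆.M i j) = true := by
  decide +kernel

theorem E6.coxElt : E6.tbl.chkOrd ((List.finRange 6).map Fin.val) 12 = true := by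
  decide +kernel

theorem E7.coxOrd : ∀ i j : Fin 7, E7.tbl.chkOrd [i.val, j.val] (CoxeterMatrix.E₇.M i j) = true := by
  decide +kernel

theorem E7.coxElt : E7.tbl.chkOrd ((List.finRange 7).map Fin.val) 18 = true := by
  decide +kernel

theorem E8.coxOrd : ∀ i j : Fin 8, E8.tbl.chkOrd [i.val, j.val] (CoxeterMatrix.E₈.M i j) = true := by
  decide +kernel

theorem E8.coxElt : E8.tbl.chkOrd ((List.finRange 8).map Fin.val) 30 = true := by
  decide +kernel

end CfsgLib.Chevalley.Data
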