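import Cfsg.Agent.Lib.Chevalley.Data.E8Table

set_option autoImplicit false
set_option maxRecDepth 20000
set_option Elab.async false

namespace CfsgLib.Chevalley.Data.E8

open Cfsg.Lie

theorem chain_block0 :
    allLt (fun j => !(Nat.blt (20 * 0 + j) tbl.n) || (tbl.chkChainBlock chevE8.chain) (20 * 0 + j)) 20 = true := by decide +kernel

theorem chain_block1 :
    allLt (fun j => !(Nat.blt (20 * 1 + j) tbl.n) || (tbl.chkChainBlock chevE8.chain) (20 * 1 + j)) 20 = true := by decide +kernel

theorem chain_block2 :
    allLt (fun j => !(Nat.blt (20 * 2 + j) tbl.n) || (tbl.chkChainBlock chevE8.chain) (20 * 2 + j)) 20 = true := by decide +kernel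

theorem chain_block3 :
    allLt (fun j => !(Nat.blt (20 * 3 + j) tbl.n) || (tbl.chkChainBlock chevE8.chain) (20 * 3 + j)) 20 = true := by decide +kernel

theorem chain_block4 :
    allLt (fun j => !(Nat.blt (20 * 4 + j) tbl.n) || (tbl.chkChainBlock chevE8.chain) (20 * 4 + j)) 20 = true := by decide +kernel

theorem chain_block5 :
    allLt (fun j => !(Nat.blt (20 * 5 + j) tbl.n) || (tbl.chkChainBlock chevE8.chain) (20 * 5 + j)) 20 = true := by decide +kernel

theorem chain_block6 :
    allLt (fun j => !(Nat.blt (20 * 6 + j) tbl.n) || (tbl.chkChainBlock chevE8.chain) (20 * 6 + j)) 20 = true := by decide +kernel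

theorem chain_block7 :
    allLt (fun j => !(Nat.blt (20 * 7 + j) tbl.n) || (tbl.chkChainBlock chevE8.chain) (20 * 7 + j)) 20 = true := by decide +kernel

theorem chain_block8 :
    allLt (fun j => !(Nat.blt (20 * 8 + j) tbl.n) || (tbl.chkChainBlock chevE8.chain) (20 * 8 + j)) 20 = true := by decide +kernel

theorem chain_block9 :
    allLt (fun j => !(Nat.blt (20 * 9 + j) tbl.n) || (tbl.chkChainBlock chevE8.chain) (20 * 9 + j)) 20 = true := by decide +kernel

theorem chain_block10 :
    allLt (fun j => !(Nat.blt (20 * 10 + j) tbl.n) || (tbl.chkChainBlock chevE8.chain) (20 * 10 + j)) 20 = true := by decide +kernel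

theorem chain_block11 :
    allLt (fun j => !(Nat.blt (20 * 11 + j) tbl.n) || (tbl.chkChainBlock chevE8.chain) (20 * 11 + j)) 20 = true := by decide +kernel

end CfsgLib.Chevalley.Data.E8
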