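import Cfsg.Agent.Lib.Chevalley.Data.G2
import Cfsg.Agent.Lib.Chevalley.PoincareCheck

/-!
Coset representatives in the reflection group of type G2.
-/

set_option autoImplicit false
set_option maxRecDepth 20000
set_option Elab.async false

namespace CfsgLib.Chevalley.Data.G2.Reps

open CfsgLib.Chevalley

/-- Representatives at step 0. -/
def reps0 : List Rep :=
  [ ⟨0x607, 0, 0, 0, 0, [1]⟩,
    ⟨0xa04, 1, 0, 0, 7, [0]⟩ ]

theorem chk0 : tbl.chkStep 0 reps0 = true := by decide +kernel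

/-- Representatives at step 1. -/
def reps1 : List Rep :=
  [ ⟨0x607, 0, 0, 0, 0, [6, 1]⟩,
    ⟨0x508, 1, 0, 1, 6, [2, 0]⟩,
    ⟨0x109, 2, 1, 0, 8, [1, 3]⟩,
    ⟨0x9, 3, 2, 1, 11, [4, 2]⟩,
    ⟨0x8, 4, 3, 0, 9, [3, 5]⟩,
    ⟨0x107, 5, 4, 1, 10, [6, 4]⟩ ]

theorem chk1 : tbl.chkStep 1 reps1 = true := by decide +kernel

theorem chkPoly_reps : chkPoly [reps0, reps1] [2, 6] = true := by decide +kernel

end CfsgLib.Chevalley.Data.G2.Reps
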