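import Cfsg.Agent.Lib.Chevalley.SuppCheck
import Cfsg.Agent.Lib.Chevalley.Data.G2
import Cfsg.Agent.Lib.Chevalley.Data.B2
import Cfsg.Agent.Lib.Chevalley.Data.D4
import Cfsg.Agent.Lib.Chevalley.Data.F4
import Cfsg.Agent.Lib.Chevalley.Data.E6
import Cfsg.Agent.Lib.Chevalley.Data.E7
import Cfsg.Agent.Lib.Chevalley.Data.E8

/-!
Supports of roots and coroots agree.
-/

set_option autoImplicit false
set_option maxRecDepth 20000
set_option Elab.async false

namespace CfsgLib.Chevalley.Data

theorem G2.chkSupp : G2.tbl.chkSupp = true := by decide +kernel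

theorem B2.chkSupp : B2.tbl.chkSupp = true := by decide +kernel

theorem D4.chkSupp : D4.tbl.chkSupp = true := by decide +kernel

theorem F4.chkSupp : F4.tbl.chkSupp = true := by decide +kernel

theorem E6.chkSupp : E6.tbl.chkSupp = true := by decide +kernel

theorem E7.chkSupp : E7.tbl.chkSupp = true := by decide +kernel

theorem E8.chkSupp : E8.tbl.chkSupp = true := by decide +kernel

end CfsgLib.Chevalley.Data
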