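import Cfsg.Agent.Lib.Chevalley.Twist.Weyl1Check
import Cfsg.Agent.Lib.Chevalley.Data.F4

/-!
The twisted Weyl group inside type F4, element by element.
-/

set_option autoImplicit false
set_option maxRecDepth 100000
set_option maxHeartbeats 4000000
set_option Elab.async false

namespace CfsgLib.Chevalley.Data.F4

/-- The orbit words. -/
def orbWords : List (List ℕ) := [[0, 3], [1, 2, 1, 2]]

/-- The entries. -/
def eltEnt (m : ℕ) : Ent :=
  bif Nat.ble 8 m then
    bif Nat.ble 12 m then
     bif Nat.ble 14 m then
      bif Nat.ble 15 m then
       ⟨1156859472462498766225422536681594376479363746965889882392, 0, 0, 0, 0, [13, 14]⟩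
     else
       ⟨1156475600299951163748527046983490622284367802444810229280, 1, 15, 1, 2, [12, 15]⟩
    else
      bif Nat.ble 13 m then
       ⟨1132435318870874736038545083308531675988698642089088981527, 1, 15, 0, 1, [15, 11]⟩
     else
       ⟨1130802178555851679123546064493833666195511951123972429099, 2, 14, 0, 3, [14, 10]⟩
   else
     bif Nat.ble 10 m then
      bif Nat.ble 11 m then
       ⟨1034354850074650714940753829759728462662200245722975444751, 2, 13, 1, 3, [9, 13]⟩
     else
       ⟨1031474312300703034307466718285428822953901507627293675565, 3, 12, 1, 5, [8, 12]⟩
    else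
      bif Nat.ble 9 m then
       ⟨740015797970495425424413307937698606468854357326436837636, 3, 11, 0, 4, [11, 7]⟩
     else
       ⟨736085410899549412416458745693697086169378658048469304877, 4, 10, 0, 6, [10, 6]⟩
  else
    bif Nat.ble 4 m then
     bif Nat.ble 6 m then
      bif Nat.ble 7 m then
       ⟨420870595230544689153274991132813978759290776813529213186, 4, 9, 1, 6, [5, 9]⟩
     else
       ⟨416940208159598676145320428888812458459815077535561680427, 5, 8, 1, 8, [4, 8]⟩
    else
      bif Nat.ble 5 m then
       ⟨125481693829391067262267018541082241974767927234704842498, 5, 7, 0, 7, [7, 3]⟩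
     else
       ⟨122601156055443386628979907066782602266469189139023073312, 6, 6, 0, 9, [6, 2]⟩
   else
     bif Nat.ble 2 m then
      bif Nat.ble 3 m then
       ⟨26153827574242422446187672332677398733157483738026088964, 6, 5, 1, 9, [1, 5]⟩
     else
       ⟨24520687259219365531188653517979388939970792772909536536, 7, 4, 1, 11, [0, 4]⟩
    else
      bif Nat.ble 1 m then
       ⟨480405830142937821206689843020442644301632417188288783, 7, 3, 0, 10, [3, 0]⟩
     else
       ⟨96533667595335344311200144916688449305687896108635671, 8, 1, 1, 12, [2, 1]⟩

/-- The listed elements. -/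
def elts : Elts := ⟨16, eltEnt, [7108411705297537000650833972699590125151335224076337590424180454577793053650027706237560883744340433321271849254913, 7259314997575176838862586450103949833452818693262143558037780521355387713640358514383642680778672092902379523147008], 2⟩

theorem chk_elts : tbl.chkElts orbWords elts = true := by decide +kernel

end CfsgLib.Chevalley.Data.F4
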