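import Cfsg.Agent.Lib.Chevalley.Twist.Weyl1Check
import Cfsg.Agent.Lib.Chevalley.Data.G2

/-!
The twisted Weyl group inside type G2, element by element.
-/

set_option autoImplicit false
set_option maxRecDepth 100000
set_option maxHeartbeats 4000000
set_option Elab.async false

namespace CfsgLib.Chevalley.Data.G2

/-- The orbit words. -/
def orbWords : List (List ℕ) := [[0, 1, 0, 1, 0, 1]]

/-- The entries. -/
def eltEnt (m : ℕ) : Ent :=
  bif Nat.ble 1 m then
    ⟨12137729099526, 0, 0, 0, 0, [0]⟩
  else
    ⟨4328719365, 1, 1, 0, 3, [1]⟩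

/-- The listed elements. -/
def elts : Elts := ⟨2, eltEnt, [1218426182456967898401291], 2⟩

theorem chk_elts : tbl.chkElts orbWords elts = true := by decide +kernel

end CfsgLib.Chevalley.Data.G2
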